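import Groth.Agent.Sga4h.TameExt
import Mathlib.FieldTheory.IsSepClosed
import Mathlib.FieldTheory.IntermediateField.Adjoin.Basic

/-!
# (F3) a finite Galois extension of a strictly henselian field contains `K(ϖ^{1/ℓ^s})` with prime-to-`ℓ` index
-/

set_option autoImplicit false
universe u
open IsLocalRing

namespace Groth.Agent.Sga7.H160.KummerSub

/-- (F3) a finite Galois extension of a strictly henselian field contains `K(ϖ^{1/ℓ^s})` with index
prime to `ℓ` -/
theorem exists_kummer_sub (R K Ω : Type u) [CommRing R] [IsDomain R] [IsDiscreteValuationRing R] [HenselianLocalRing R]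
    [IsSepClosed (ResidueField R)] [Field K] [Algebra R K] [IsFractionRing R K] [Field Ω] [Algebra K Ω] [IsSepClosure K Ω]
    (ℓ : ℕ) (hℓ : ℓ.Prime) (hℓp : (ℓ : ResidueField R) ≠ 0) (ϖ : R) (hϖ : Irreducible ϖ)
    (F : IntermediateField K Ω) [FiniteDimensional K F] [IsGalois K F] :
    ∃ (s : ℕ) (y : Ω), y ^ (ℓ ^ s) = algebraMap K Ω (algebraMap R K ϖ) ∧ y ∈ F ∧
      ∃ d : ℕ, ¬ ℓ ∣ d ∧ Module.finrank K F = Module.finrank K (IntermediateField.adjoin K {y}) * d := by
  let : Algebra R F := ((algebraMap K F).comp (algebraMap R K)).toAlgebra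
  have : IsScalarTower R K F := IsScalarTower.of_algebraMap_eq fun r => rfl
  have : Fact ℓ.Prime := ⟨hℓ⟩
  have hu : IsUnit (ℓ : R) := by
    by_contra h
    apply hℓp
    rw [← map_natCast (residue R), residue_eq_zero_iff]
    exact h
  have hR : EtCoh.IsStrictlyHenselianLocalRing R := ⟨inferInstance, inferInstance⟩
  obtain ⟨a, z, hz, hd⟩ := Groth.Agent.Sga4h.TameExt.exists_tame R K F hR ℓ hu hϖ
  refine ⟨a, (z : Ω), ?_, z.2, _, hd, ?_⟩
  · have := congrArg (algebraMap F Ω) hz
    rw [map_pow] at this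
    exact this
  · rw [← Module.finrank_mul_finrank K (IntermediateField.adjoin K {z}) F]
    congr 1
    have h1 : IsIntegral K z := Algebra.IsIntegral.isIntegral z
    have h2 : IsIntegral K (z : Ω) := h1.map F.val
    rw [IntermediateField.adjoin.finrank h1, IntermediateField.adjoin.finrank h2]
    congr 1
    exact (minpoly.algebraMap_eq (algebraMap F Ω).injective z).symm

end Groth.Agent.Sga7.H160.KummerSub
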